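import Mathlib
import Cfsg.Agent.Lib.Lead.W2P.Defs

set_option autoImplicit false
open scoped ComplexConjugate
open Classical

namespace Cfsg.Agent.Lib.Helper24.P2P

open MulAction Cfsg.Agent.Lib.helper6.PermChar Cfsg.Agent.Lib.Lead.W2P

universe u v

structure Setting2 (G : Type u) [Group G] [Fintype G] (Ω : Type v) [Fintype Ω] [DecidableEq Ω]
    [MulAction G Ω] (p : ℕ) (P : Sylow p G) : Prop where
  S : Setting G Ω p P
  big : 3 < p
  nrm : Nat.card (Subgroup.normalizer ((P : Subgroup G) : Set G)) = 2 * p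

end Cfsg.Agent.Lib.Helper24.P2P
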