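import Mathlib
import Cfsg.Agent.Lib.Helper24.P2P.Defs
import Cfsg.Agent.Lib.Lead.W2P.Main
import Cfsg.Agent.S0494
import Cfsg.Agent.Lib.helper23.DegGraphA5
import Cfsg.Agent.Lib.Helper16.P2PCUBE
import Cfsg.Agent.Lib.Helper1.P2PVALS
import Cfsg.Agent.Lib.Helper1.P2PORDV
import Cfsg.Agent.Lib.Helper24.P2PARITH
import Cfsg.Agent.Lib.Helper21.P2PSING
import Cfsg.Agent.Lib.Helper26.P2PINT
import Cfsg.Agent.Lib.Helper22.P2PCOUNT
import Cfsg.Agent.Lib.Helper10.P2PEXC

set_option autoImplicit false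
set_option linter.unusedVariables false
set_option linter.unusedSectionVars false
set_option linter.style.haveILetI false
open scoped ComplexConjugate
open Classical

namespace Cfsg.Agent.Lib.Helper24.P2P

open MulAction Cfsg.Agent.Lib.helper6.PermChar Cfsg.Agent.Lib.Lead.W2P Cfsg.Agent.Lib.Helper25

universe u v

section setting

variable {G : Type u} [Group G] [Fintype G] {Ω : Type v} [Fintype Ω] [DecidableEq Ω] [MulAction G Ω]
  {p : ℕ} [Fact p.Prime] {P : Sylow p G}

theorem good_of_setting (S : Setting G Ω p P) : Good G Ω p := by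
  have hpos : 0 < Fintype.card Ω := by
    rw [S.card]
    have := (Fact.out : p.Prime).pos
    omega
  obtain ⟨a⟩ : Nonempty Ω := Fintype.card_pos_iff.mp hpos
  have hcl := fun χ => classify S.odd P S.cardP χ
  rcases good_or_bad S hcl with hg | hb
  · exact hg
  · exact (bad_false S hb a).elim

theorem order_eq (h : Setting2 G Ω p P) : Nat.card G = p * (p - 1) * (p - 2) := by
  have hp : p.Prime := Fact.out
  have hp3 := h.big
  obtain ⟨χ₁, χ₂, h12, h1t, h2t, hπ, hd1, hd2⟩ := good_of_setting h.S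
  have hdne : (χ₁ : G → ℂ) 1 ≠ (χ₂ : G → ℂ) 1 := by
    rw [hd1, hd2]
    intro e
    have : (p : ℂ) - 1 - (p : ℂ) = 0 := by rw [e]; ring
    norm_num at this
  have hint := chi_int χ₁ χ₂ hπ hdne
  have hsing := chi_sing h.S χ₁ χ₂ hπ hd2
  have hcount := card_psing h
  obtain ⟨θ, hθ⟩ := exists_exc h χ₁ hd1
  have hreg1 : ¬ p ∣ orderOf (1 : G) := by
    rw [orderOf_one]
    intro hd
    have := Nat.le_of_dvd one_pos hd
    omega
  have hθ1 : (θ : G → ℂ) 1 = (p : ℂ) - 2 := by
    rw [hθ 1 hreg1, hd1]; ring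
  have hid : ∀ g : G, (χ₁ : G → ℂ) g ^ 2 =
      1 + (θ : G → ℂ) g + (χ₁ : G → ℂ) g * (θ : G → ℂ) g := by
    intro g
    by_cases hg : p ∣ orderOf g
    · rw [hsing g hg]; ring
    · rw [hθ g hg]; ring
  have hreal : ∀ g : G, conj ((χ₁ : G → ℂ) g) = (χ₁ : G → ℂ) g := by
    intro g
    obtain ⟨n, hn⟩ := hint g
    rw [hn]; simp
  have hθne : θ ≠ trivIrr G := by
    intro e
    have h1 : (θ : G → ℂ) 1 = 1 := by rw [e, trivIrr_apply]
    rw [hθ1] at h1
    have h2 : (p : ℂ) = 3 := by linear_combination h1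
    have h3 : p = 3 := by exact_mod_cast h2
    omega
  have hχθ : θ ≠ χ₁ := by
    intro e
    have h1 : (θ : G → ℂ) 1 = (χ₁ : G → ℂ) 1 := by rw [e]
    rw [hθ1, hd1] at h1
    have : (1 : ℂ) = 0 := by linear_combination -h1
    norm_num at this
  obtain ⟨m, hm⟩ := cube_sum χ₁ θ hreal h1t hθne hχθ hid
  have hval := values_of_moment p hp hp3 χ₁ hd1 hint hsing hcount h1t m hm
  have hsumP : ∑ x : ↥(P : Subgroup G), (χ₁ : G → ℂ) (x : G) = 0 := by
    have hsplit : ∑ x : ↥(P : Subgroup G), (χ₁ : G → ℂ) (x : G) =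
        ∑ x : ↥(P : Subgroup G), (if x = 1 then (p : ℂ) else 0) +
          ∑ x : ↥(P : Subgroup G), (-1 : ℂ) := by
      rw [← Finset.sum_add_distrib]
      apply Finset.sum_congr rfl
      intro x _
      by_cases hx : x = 1
      · rw [if_pos hx, hx]
        simp only [Subgroup.coe_one]
        rw [hd1]; ring
      · rw [if_neg hx]
        have hxG : (x : G) ≠ 1 := fun e => hx (Subtype.ext e)
        have hord := w2pcen_order h.S x.2 hxG
        rw [hsing (x : G) (by rw [hord])]
        ring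
    rw [hsplit, Finset.sum_ite_eq' Finset.univ (1 : ↥(P : Subgroup G)) (fun _ => (p : ℂ))]
    simp only [Finset.mem_univ, if_true, Finset.sum_const, Finset.card_univ, nsmul_eq_mul]
    rw [← Nat.card_eq_fintype_card, h.S.cardP]
    ring
  have hfaith := faithful_of_sum_zero h.S χ₁ hsumP
  exact order_of_values p hp hp3 χ₁ hd1 hsing hcount h1t hfaith hval

theorem p_eq_five (h : Setting2 G Ω p P) : p = 5 := by
  have hp : p.Prime := Fact.out
  have hp3 := h.big
  have hord := order_eq h
  have hpos : 0 < Fintype.card Ω := by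
    rw [h.S.card]
    omega
  obtain ⟨a₀⟩ : Nonempty Ω := Fintype.card_pos_iff.mp hpos
  obtain ⟨-, a, ha, hpa, hsub⟩ := good_finish h.S (good_of_setting h.S) a₀
  have h2 : 1 < Fintype.card Ω := by
    rw [h.S.card]
    omega
  obtain ⟨b, hb⟩ := Fintype.exists_ne_of_one_lt_card h2 a₀
  haveI := h.S.prim.toIsPretransitive
  have hstab : Nat.card (stabilizer G a₀) * (2 * p) = Nat.card G := by
    have h1 : (stabilizer G a₀).index = Nat.card Ω := index_stabilizer_of_transitive G a₀
    have h3 := (stabilizer G a₀).card_mul_index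
    rw [h1, Nat.card_eq_fintype_card (α := Ω), h.S.card] at h3
    exact h3
  have horb : Nat.card (orbit (stabilizer G a₀) b) ∣ Nat.card (stabilizer G a₀) := by
    have h4 := card_orbit_mul_card_stabilizer_eq_card_group (stabilizer G a₀) b
    rw [← Nat.card_eq_fintype_card, ← Nat.card_eq_fintype_card, ← Nat.card_eq_fintype_card] at h4
    exact Dvd.intro _ h4
  have hdvd : (2 * a + 1) ∣ Nat.card (stabilizer G a₀) := by
    rcases hsub b hb with e | e
    · exact dvd_trans ⟨a, by rw [e]; ring⟩ horb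
    · exact dvd_trans ⟨a + 1, by rw [e]; ring⟩ horb
  have hcard : Nat.card (stabilizer G a₀) = (p - 1) * (p - 2) / 2 := by
    have hp0 : 0 < p := hp.pos
    have h5 : Nat.card (stabilizer G a₀) * 2 * p = (p - 1) * (p - 2) * p := by
      calc Nat.card (stabilizer G a₀) * 2 * p = Nat.card (stabilizer G a₀) * (2 * p) := by ring
        _ = Nat.card G := hstab
        _ = p * (p - 1) * (p - 2) := hord
        _ = (p - 1) * (p - 2) * p := by ring
    have h6 := Nat.eq_of_mul_eq_mul_right hp0 h5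
    omega
  rw [hcard] at hdvd
  have ha1 := arith_a a p ha hpa hdvd
  subst ha1
  omega

end setting

section fin

variable {G : Type u} [Group G] [Fintype G] {Ω : Type v} [Fintype Ω] [DecidableEq Ω] [MulAction G Ω]

theorem iso_A5 [Fact (Nat.Prime 5)] {P : Sylow 5 G} (h : Setting2 G Ω 5 P) :
    Nonempty (G ≃* alternatingGroup (Fin 5)) := by
  have hord : Nat.card G = 60 := by
    have := order_eq h
    simpa using this
  have hnn : ∀ Q : Sylow 5 G, ¬ (Q : Subgroup G).Normal := by
    intro Q hQ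
    apply no_normal_p h.S (Q : Subgroup G) hQ
    rw [Sylow.card_eq_multiplicity, ← Sylow.card_eq_multiplicity P, h.S.cardP]
  haveI := Cfsg.Agent.Lib.helper23.dga_simple hord hnn
  exact Cfsg.Agent.S0494.result hord

end fin

end Cfsg.Agent.Lib.Helper24.P2P
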